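import Cfsg.Agent.DL.Dw.Avg
import Cfsg.Agent.DL.Dw.Split

/-!
# The Dwork operator of a monomial root of the Frobenius map (helper30)

`C` is the exponent map, `(C ^ (n + 1)) u = Q • u`; the weight `W` grows along `C`.
-/

set_option autoImplicit false
set_option linter.unusedSectionVars false
set_option maxHeartbeats 200000

namespace Cfsg.Agent.KM.Rt3

open MvPolynomial Filter Topology Cfsg.Agent.DL.Dw

variable {A : Type} [Fintype A] [DecidableEq A]

/-- the monomial with exponent `u` -/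
def mon {M : Type*} [CommMonoid M] (x : A → M) (u : A →₀ ℕ) : M := ∏ a, x a ^ u a

theorem mon_add {M : Type*} [CommMonoid M] (x : A → M) (u v : A →₀ ℕ) : mon x (u + v) = mon x u * mon x v := by
  simp only [mon, Finsupp.coe_add, Pi.add_apply, pow_add, Finset.prod_mul_distrib]

theorem mon_zero {M : Type*} [CommMonoid M] (x : A → M) : mon x 0 = 1 := by simp [mon]

theorem mon_single {M : Type*} [CommMonoid M] (x : A → M) (a : A) (n : ℕ) : mon x (Finsupp.single a n) = x a ^ n := by
  rw [mon, Finset.prod_eq_single a, Finsupp.single_eq_same]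
  · intro b _ hb
    rw [Finsupp.single_eq_of_ne hb, pow_zero]
  · intro h; exact absurd (Finset.mem_univ _) h

theorem mon_smul {M : Type*} [CommMonoid M] (x : A → M) (n : ℕ) (u : A →₀ ℕ) : mon x (n • u) = mon x u ^ n := by
  induction n with
  | zero => rw [zero_smul, mon_zero, pow_zero]
  | succ n ih => rw [succ_nsmul, mon_add, ih, pow_succ]

theorem mon_mul {M : Type*} [CommMonoid M] (x y : A → M) (u : A →₀ ℕ) : mon (x * y) u = mon x u * mon y u := by
  simp only [mon, Pi.mul_apply, mul_pow, Finset.prod_mul_distrib]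

/-- the monomial map with exponent map `D` -/
noncomputable def mp {M : Type*} [CommMonoid M] (D : AddMonoid.End (A →₀ ℕ)) (x : A → M) : A → M :=
  fun a => mon x (D (Finsupp.single a 1))

theorem mon_mp {M : Type*} [CommMonoid M] (D : AddMonoid.End (A →₀ ℕ)) (x : A → M) (u : A →₀ ℕ) :
    mon (mp D x) u = mon x (D u) := by
  induction u using Finsupp.induction_linear with
  | zero => rw [map_zero, mon_zero, mon_zero]
  | add u v hu hv => rw [map_add, mon_add, mon_add, hu, hv]
  | single a n =>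
    rw [mon_single, mp, ← mon_smul, ← map_nsmul, Finsupp.smul_single, smul_eq_mul, mul_one]

theorem mp_mul {M : Type*} [CommMonoid M] (D : AddMonoid.End (A →₀ ℕ)) (x y : A → M) :
    mp D (x * y) = mp D x * mp D y := funext fun _ => mon_mul _ _ _

theorem mp_iter {M : Type*} [CommMonoid M] (D : AddMonoid.End (A →₀ ℕ)) (m : ℕ) (x : A → M) :
    (mp D)^[m] x = mp (D ^ m) x := by
  induction m with
  | zero => funext a; simp [mp, mon_single]
  | succ m ih =>
    funext a
    rw [Function.iterate_succ_apply', ih, mp, mon_mp, pow_succ]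
    rfl

section alg

variable {E : Type*} [Field E]

/-- the pull-back of polynomials along the monomial map -/
noncomputable def pb (D : AddMonoid.End (A →₀ ℕ)) : MvPolynomial A E →ₐ[E] MvPolynomial A E :=
  aeval fun a => monomial (D (Finsupp.single a 1)) 1

theorem pb_monomial (D : AddMonoid.End (A →₀ ℕ)) (u : A →₀ ℕ) (c : E) :
    pb D (monomial u c) = monomial (D u) c := by
  have h : ∀ u : A →₀ ℕ, pb D (monomial u (1 : E)) = monomial (D u) 1 := fun u => by
    induction u using Finsupp.induction_linear with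
    | zero => rw [map_zero]; exact map_one _
    | add u v hu hv =>
      rw [map_add, ← mul_one (1 : E), ← monomial_mul, ← monomial_mul, map_mul, hu, hv]
    | single a n =>
      rw [← X_pow_eq_monomial, map_pow, pb, aeval_X, monomial_pow, one_pow, ← map_nsmul, Finsupp.smul_single,
        smul_eq_mul, mul_one]
  rw [← mul_one c, ← smul_eq_mul, ← smul_monomial, ← smul_monomial, map_smul, h]

theorem eval_pb (D : AddMonoid.End (A →₀ ℕ)) (z : A → E) (G : MvPolynomial A E) :
    eval z (pb D G) = eval (mp D z) G := by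
  induction G using MvPolynomial.induction_on' with
  | monomial u c =>
    rw [pb_monomial, eval_monomial, eval_monomial, Finsupp.prod_fintype _ _ (by simp),
      Finsupp.prod_fintype _ _ (by simp)]
    exact congrArg (c * ·) (mon_mp D z u).symm
  | add p q hp hq => simp only [map_add, hp, hq]

theorem end_mono (D : AddMonoid.End (A →₀ ℕ)) {a u : A →₀ ℕ} (h : a ≤ u) : D a ≤ D u := by
  rw [← add_tsub_cancel_of_le h, map_add]
  exact le_self_add

theorem le_of_pow {D : AddMonoid.End (A →₀ ℕ)} {n q : ℕ} (hq : 0 < q) (hD : ∀ u, (D ^ (n + 1)) u = q • u)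
    {a u : A →₀ ℕ} (h : D a ≤ D u) : a ≤ u := fun i => by
  have := end_mono (D ^ n) h i
  change (D ^ n * D) a i ≤ (D ^ n * D) u i at this
  rw [← pow_succ, hD, hD] at this
  simp only [Finsupp.coe_smul, Pi.smul_apply, smul_eq_mul] at this
  exact Nat.le_of_mul_le_mul_left this hq

theorem pow_pow {C : AddMonoid.End (A →₀ ℕ)} {d Q : ℕ} (hC : ∀ u, (C ^ d) u = Q • u) (m : ℕ) (u : A →₀ ℕ) :
    ((C ^ m) ^ d) u = Q ^ m • u := by
  rw [← pow_mul, mul_comm, pow_mul]
  induction m generalizing u with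
  | zero => simp
  | succ m ih =>
    rw [pow_succ, pow_succ, mul_smul]
    change ((C ^ d) ^ m) ((C ^ d) u) = _
    rw [ih, hC]

theorem coeff_pb_mul {D : AddMonoid.End (A →₀ ℕ)} {n q : ℕ} (hq : 0 < q) (hD : ∀ u, (D ^ (n + 1)) u = q • u)
    (g f : MvPolynomial A E) (u : A →₀ ℕ) (T : Finset (A →₀ ℕ)) (hT : ∀ w, w ≤ u → coeff (D w) f ≠ 0 → w ∈ T) :
    ∑ w ∈ T, coeff u (g * monomial w 1) * coeff (D w) f = coeff (D u) (pb D g * f) := by
  induction g using MvPolynomial.induction_on' with
  | monomial a c =>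
    rw [pb_monomial, coeff_monomial_mul']
    simp only [monomial_mul, coeff_monomial, mul_one]
    by_cases h : a ≤ u
    · have h2 : D u - D a = D (u - a) := by
        conv_lhs => rw [← add_tsub_cancel_of_le h, map_add, add_tsub_cancel_left]
      rw [if_pos (end_mono D h), h2, Finset.sum_eq_single (u - a), if_pos (add_tsub_cancel_of_le h)]
      · intro w _ hw
        rw [if_neg, zero_mul]
        rintro rfl
        exact hw (add_tsub_cancel_left a w).symm
      · intro h3
        rw [not_not.1 (mt (hT _ tsub_le_self) h3), mul_zero]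
    · rw [if_neg fun h1 => h (le_of_pow hq hD h1)]
      refine Finset.sum_eq_zero fun w _ => ?_
      rw [if_neg, zero_mul]
      rintro rfl
      exact h le_self_add
  | add p q hp hq =>
    simp only [add_mul, coeff_add, map_add, Finset.sum_add_distrib, hp, hq]

/-- the product of the pull-backs -/
noncomputable def hpw (C : AddMonoid.End (A →₀ ℕ)) (G : MvPolynomial A E) (m : ℕ) : MvPolynomial A E :=
  ∏ i ∈ Finset.range m, pb (C ^ i) G

theorem hpw_succ (C : AddMonoid.End (A →₀ ℕ)) (G : MvPolynomial A E) (m : ℕ) :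
    hpw C G (m + 1) = pb (C ^ m) G * hpw C G m := by
  rw [hpw, Finset.prod_range_succ, mul_comm]; rfl

/-- expanding roots of the multiplication by `Q` -/
structure Xp (C : AddMonoid.End (A →₀ ℕ)) (n Q : ℕ) (W : (A →₀ ℕ) →+ ℕ) (c : ℕ) : Prop where
  hQ : 1 < Q
  rt : ∀ u, (C ^ (n + 1)) u = Q • u
  le_W : ∀ u, Finsupp.degree u ≤ W u
  W_le : ∀ u, W u ≤ c * Finsupp.degree u
  grow : ∀ u, W u + Finsupp.degree u ≤ W (C u)

variable {C : AddMonoid.End (A →₀ ℕ)} {n Q : ℕ} {W : (A →₀ ℕ) →+ ℕ} {c : ℕ}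

theorem Xp.step (h : Xp C n Q W c) {G : MvPolynomial A E} {L : ℕ} (hL : c * (c * G.totalDegree) ≤ L) {w v : A →₀ ℕ}
    (hw : coeff (C w) (G * monomial v 1) ≠ 0) : v ≤ C w ∧ (W w ≤ L ∨ W w < W v) := by
  rw [coeff_mul_monomial'] at hw
  split_ifs at hw with h1
  · refine ⟨h1, ?_⟩
    have h2 : C w - v ∈ G.support := by
      rw [mem_support_iff]; simpa using hw
    have h3 : Finsupp.degree (C w - v) ≤ G.totalDegree := by
      simpa [Finsupp.degree_apply, Finsupp.sum] using le_totalDegree h2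
    have h4 := congrArg W (tsub_add_cancel_of_le h1)
    rw [map_add] at h4
    have h5 := (h.W_le (C w - v)).trans (Nat.mul_le_mul_left c h3)
    have h6 := h.grow w
    have h7 := h.W_le w
    by_contra h8
    push Not at h8
    have h9 : Finsupp.degree w ≤ c * G.totalDegree := by omega
    have := Nat.mul_le_mul_left c h9
    omega
  · exact absurd rfl hw

theorem Xp.split (h : Xp C n Q W c) (G f : MvPolynomial A E) (m : ℕ) (u : A →₀ ℕ) (T : Finset (A →₀ ℕ))
    (hT : ∀ w, w ≤ C u → coeff ((C ^ m) w) (hpw C G m * f) ≠ 0 → w ∈ T) :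
    ∑ w ∈ T, coeff (C u) (G * monomial w 1) * coeff ((C ^ m) w) (hpw C G m * f) =
      coeff ((C ^ (m + 1)) u) (hpw C G (m + 1) * f) := by
  rw [coeff_pb_mul (pow_pos (by have := h.hQ; omega) m) (pow_pow h.rt m) _ _ _ _ hT, hpw_succ, mul_assoc, pow_succ]
  rfl

theorem Xp.wt (h : Xp C n Q W c) {G : MvPolynomial A E} {L : ℕ} (hL : c * (c * G.totalDegree) ≤ L) (v : A →₀ ℕ)
    (m : ℕ) (w : A →₀ ℕ) (hw : coeff ((C ^ m) w) (hpw C G m * monomial v 1) ≠ 0) :
    W w ≤ L ∨ W w + min m 1 ≤ W v := by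
  induction m generalizing w with
  | zero =>
    right
    simp only [pow_zero, AddMonoid.End.one_apply, hpw, Finset.range_zero, Finset.prod_empty, one_mul,
      coeff_monomial] at hw
    split_ifs at hw with h1
    · rw [h1]; simp
    · exact absurd rfl hw
  | succ m ih =>
    rw [← h.split G _ m w (Finset.Iic (C w)) fun _ h1 _ => Finset.mem_Iic.2 h1] at hw
    obtain ⟨w', -, h1⟩ := Finset.exists_ne_zero_of_sum_ne_zero hw
    have h2 := (h.step hL (left_ne_zero_of_mul h1)).2
    have h3 := ih w' (right_ne_zero_of_mul h1)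
    omega

/-- the exponents of weight at most `L` with support in `S` -/
noncomputable def UW (W : (A →₀ ℕ) →+ ℕ) (L : ℕ) (S : Finset A) : Finset (A →₀ ℕ) :=
  (Finsupp.finite_of_degree_le (σ := A) L).toFinset.filter fun u => W u ≤ L ∧ u.support ⊆ S

theorem Xp.mem_UW (h : Xp C n Q W c) {L : ℕ} {S : Finset A} {u : A →₀ ℕ} :
    u ∈ UW W L S ↔ W u ≤ L ∧ u.support ⊆ S := by
  simp only [UW, Finset.mem_filter, Set.Finite.mem_toFinset, and_iff_right_iff_imp]
  exact fun h1 => (h.le_W u).trans h1.1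

/-- the matrix of the operator -/
noncomputable def mat (C : AddMonoid.End (A →₀ ℕ)) (W : (A →₀ ℕ) →+ ℕ) (G : MvPolynomial A E) (L : ℕ)
    (S : Finset A) : Matrix (UW W L S) (UW W L S) E := fun u v => coeff (C u.1) (G * monomial v.1 1)

theorem Xp.mat_pow (h : Xp C n Q W c) {G : MvPolynomial A E} {L : ℕ} (hL : c * (c * G.totalDegree) ≤ L)
    {S : Finset A} (hS : ∀ u : A →₀ ℕ, u.support ⊆ S → (C u).support ⊆ S) (m : ℕ) (u v : UW W L S) :
    (mat C W G L S ^ m) u v = coeff ((C ^ m) u.1) (hpw C G m * monomial v.1 1) := by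
  induction m generalizing u with
  | zero =>
    simp only [pow_zero, AddMonoid.End.one_apply, hpw, Finset.range_zero, Finset.prod_empty, one_mul,
      coeff_monomial, Matrix.one_apply, Subtype.val_inj, eq_comm]
  | succ m ih =>
    rw [pow_succ', Matrix.mul_apply, ← h.split G _ m u.1 (UW W L S)]
    · simp only [ih, mat]
      exact Finset.sum_coe_sort (UW W L S) fun w =>
        coeff (C u.1) (G * monomial w 1) * coeff ((C ^ m) w) (hpw C G m * monomial v.1 1)
    · intro w h1 h2
      have h3 := h.wt hL v.1 m w h2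
      have h4 := (h.mem_UW.1 v.2).1
      exact h.mem_UW.2 ⟨by omega, (Finsupp.support_mono h1).trans (hS _ (h.mem_UW.1 u.2).2)⟩

theorem supp_pow {S : Finset A} (hS : ∀ u : A →₀ ℕ, u.support ⊆ S → (C u).support ⊆ S) (m : ℕ) (u : A →₀ ℕ)
    (hu : u.support ⊆ S) : ((C ^ m) u).support ⊆ S := by
  induction m with
  | zero => exact hu
  | succ m ih => rw [pow_succ']; exact hS _ ih

theorem sol_eq {D : AddMonoid.End (A →₀ ℕ)} {d q : ℕ} (hD : ∀ u, (D ^ d) u = (q + 1) • u) {w u : A →₀ ℕ}
    (hu : D u = w + u) : q • u = ∑ j ∈ Finset.range d, (D ^ j) w := by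
  have h : ∀ j, (D ^ j) u = ∑ i ∈ Finset.range j, (D ^ i) w + u := fun j => by
    induction j with
    | zero => simp
    | succ j ih =>
      rw [pow_succ, Finset.sum_range_succ]
      change (D ^ j) (D u) = _
      rw [hu, map_add, ih]
      abel
  have := hD u
  rw [h, succ_nsmul] at this
  exact (add_right_cancel this).symm

theorem smul_inj {q : ℕ} (hq : 0 < q) {u v : A →₀ ℕ} (h : q • u = q • v) : u = v := by
  ext i
  have := DFunLike.congr_fun h i
  simp only [Finsupp.coe_smul, Pi.smul_apply, smul_eq_mul] at this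
  exact Nat.eq_of_mul_eq_mul_left hq this

theorem sol_of {D : AddMonoid.End (A →₀ ℕ)} {d q : ℕ} (hq : 0 < q) (hD : ∀ u, (D ^ d) u = (q + 1) • u)
    {w u : A →₀ ℕ} (hu : q • u = ∑ j ∈ Finset.range d, (D ^ j) w) : D u = w + u := by
  refine smul_inj hq ?_
  have h1 := Finset.sum_range_succ (fun j => (D ^ j) w) d
  rw [Finset.sum_range_succ', hD, ← hu, succ_nsmul, ← add_assoc] at h1
  rw [← map_nsmul, hu, map_sum, smul_add, add_comm]
  refine Eq.trans (Finset.sum_congr rfl fun j _ => ?_) (add_right_cancel h1)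
  rw [pow_succ']
  rfl

theorem sum_supp {D : AddMonoid.End (A →₀ ℕ)} {S : Finset A}
    (hS : ∀ u : A →₀ ℕ, u.support ⊆ S → (D u).support ⊆ S) (d : ℕ) {w : A →₀ ℕ} (hw : w.support ⊆ S) :
    (∑ j ∈ Finset.range d, (D ^ j) w).support ⊆ S :=
  Finsupp.support_finsetSum.trans (Finset.biUnion_subset.2 fun j _ => supp_pow hS j w hw)

theorem sol_supp {D : AddMonoid.End (A →₀ ℕ)} {d q : ℕ} (hq : 0 < q) (hD : ∀ u, (D ^ d) u = (q + 1) • u)
    {S : Finset A} (hS : ∀ u : A →₀ ℕ, u.support ⊆ S → (D u).support ⊆ S) {w u : A →₀ ℕ} (hu : D u = w + u) :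
    u.support ⊆ S ↔ w.support ⊆ S := by
  constructor
  · intro h1
    exact (Finsupp.support_mono (hu ▸ le_self_add : w ≤ D u)).trans (hS _ h1)
  · intro h1
    have h2 : (q • u).support ⊆ S := by
      rw [sol_eq hD hu]
      exact sum_supp hS d h1
    refine (Finsupp.support_mono ?_).trans h2
    intro i
    simpa using Nat.le_mul_of_pos_left (u i) hq

open Classical in
/-- the trace functional -/
noncomputable def lam (D : AddMonoid.End (A →₀ ℕ)) (S : Finset A) (h : MvPolynomial A E) : E :=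
  ∑ w ∈ h.support, coeff w h * if w.support ⊆ S ∧ ∃ u, D u = w + u then 1 else 0

theorem lam_sub (D : AddMonoid.End (A →₀ ℕ)) (S : Finset A) (h h' : MvPolynomial A E) :
    lam D S h - lam D S h' = lam D S (h - h') := by
  have key : ∀ (g : MvPolynomial A E) (T : Finset (A →₀ ℕ)) (a : (A →₀ ℕ) → E), g.support ⊆ T →
      ∑ w ∈ g.support, coeff w g * a w = ∑ w ∈ T, coeff w g * a w := fun g T a hT =>
    Finset.sum_subset hT fun w _ hw => by rw [notMem_support_iff.1 hw, zero_mul]
  rw [lam, lam, lam, key h _ _ (Finset.subset_union_left (s₂ := h'.support)),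
    key h' _ _ (Finset.subset_union_right (s₁ := h.support)), key (h - h') _ _ (support_sub _ _ _),
    ← Finset.sum_sub_distrib]
  exact Finset.sum_congr rfl fun w _ => by rw [coeff_sub, sub_mul]

theorem Xp.trace_pow (h : Xp C n Q W c) {G : MvPolynomial A E} {L : ℕ} (hL : c * (c * G.totalDegree) ≤ L)
    {S : Finset A} (hS : ∀ u : A →₀ ℕ, u.support ⊆ S → (C u).support ⊆ S) {m : ℕ} (hm : 0 < m) :
    (mat C W G L S ^ m).trace = lam (C ^ m) S (hpw C G m) := by
  obtain ⟨q, hq⟩ : ∃ q, Q ^ m = q + 1 := ⟨Q ^ m - 1, by have := Nat.one_lt_pow hm.ne' h.hQ; omega⟩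
  have hq0 : 0 < q := by have := Nat.one_lt_pow hm.ne' h.hQ; omega
  have hD : ∀ u, ((C ^ m) ^ (n + 1)) u = (q + 1) • u := fun u => by rw [pow_pow h.rt, hq]
  simp only [Matrix.trace, Matrix.diag_apply, h.mat_pow hL hS]
  rw [Finset.sum_coe_sort (UW W L S) fun u => coeff ((C ^ m) u) (hpw C G m * monomial u 1)]
  have h1 : ∀ u, coeff ((C ^ m) u) (hpw C G m * monomial u 1) =
      ∑ w ∈ (hpw C G m).support, coeff w (hpw C G m) * if (C ^ m) u = w + u then 1 else 0 := fun u => by
    conv_lhs => rw [(hpw C G m).as_sum, Finset.sum_mul, coeff_sum]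
    refine Finset.sum_congr rfl fun w _ => ?_
    rw [monomial_mul, coeff_monomial]
    simp only [eq_comm (a := (C ^ m) u), mul_one, mul_ite, mul_zero]
  simp only [h1]
  rw [Finset.sum_comm, lam]
  refine Finset.sum_congr rfl fun w hw => ?_
  rw [← Finset.mul_sum]
  congr 1
  split_ifs with h2
  · obtain ⟨h2, u, hu⟩ := h2
    rw [Finset.sum_eq_single u, if_pos hu]
    · intro v _ hv
      exact if_neg fun h3 => hv (smul_inj hq0 ((sol_eq hD h3).trans (sol_eq hD hu).symm))
    · intro h3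
      refine absurd (h.mem_UW.2 ⟨?_, (sol_supp hq0 hD (supp_pow hS m) hu).2 h2⟩) h3
      have h4 := h.wt hL u m u (by
        rw [hu, coeff_mul_monomial, mul_one]
        exact mem_support_iff.1 hw)
      omega
  · refine Finset.sum_eq_zero fun u hu => if_neg fun h3 => h2 ⟨?_, u, h3⟩
    exact (sol_supp hq0 hD (supp_pow hS m) h3).1 (h.mem_UW.1 hu).2

end alg

section an

variable {E : Type*} [NormedField E] [IsUltrametricDist E] [CharZero E]
variable {C : AddMonoid.End (A →₀ ℕ)} {n Q : ℕ} {W : (A →₀ ℕ) →+ ℕ} {c : ℕ}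

theorem Xp.fred (h : Xp C n Q W c) {ρ : ℝ} (hρ : 1 < ρ) {G : ℕ → MvPolynomial A E} (hG : ∀ N, Bd ρ 1 (G N))
    (L : ℕ → ℕ) (S : Finset A) {t : ℕ → E}
    (ht : ∀ m, 0 < m → Tendsto (fun N => (mat C W (G N) (L N) S ^ m).trace) atTop (𝓝 (t m))) : Fred t := by
  have hρ0 : 0 < ρ := by linarith
  obtain ⟨r, hr, hr'⟩ := exists_rho (ε := ρ⁻¹) (inv_lt_one_of_one_lt₀ hρ) c
  have hr0 : 0 < r := by linarith
  have hrc : r ^ c ≤ ρ := by
    rw [inv_mul_lt_iff₀ hρ0, mul_one] at hr'
    exact hr'.le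
  choose B hB using fun R : ℝ => exists_prod_bd (I := A) hr (max R 0) (by positivity)
  refine ⟨B, FredBd.of_tendsto (l := atTop) ht (Eventually.of_forall fun N => ?_)⟩
  refine fredBd_trace (mat C W (G N) (L N) S) (fun u => 1 / r ^ Finsupp.degree u.1) (fun u => r ^ W u.1)
    (fun u => by positivity) (fun u => by positivity) (fun u v => ?_) B fun R hR J => ?_
  · have h1 : ‖mat C W (G N) (L N) S u v‖ * r ^ W (C u.1) ≤ r ^ W v.1 := by
      rw [mat, coeff_mul_monomial']
      split_ifs with h1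
      · have h4 := congrArg W (tsub_add_cancel_of_le h1)
        rw [map_add] at h4
        rw [mul_one, ← h4, pow_add, ← mul_assoc]
        refine mul_le_of_le_one_left (by positivity) (le_trans ?_ (hG N (C u.1 - v.1)))
        refine mul_le_mul_of_nonneg_left ?_ (norm_nonneg _)
        refine (pow_le_pow_right₀ hr.le (h.W_le _)).trans ?_
        rw [pow_mul]
        exact pow_le_pow_left₀ (by positivity) hrc _
      · rw [norm_zero, zero_mul]; positivity
    rw [one_div, inv_mul_eq_div, le_div_iff₀ (by positivity), mul_assoc, ← pow_add]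
    exact le_trans (mul_le_mul_of_nonneg_left (pow_le_pow_right₀ hr.le (h.grow _)) (norm_nonneg _)) h1
  · have h1 := hB R (J.map (Function.Embedding.subtype _))
    rw [Finset.prod_map, max_eq_left (by linarith : (0 : ℝ) ≤ R)] at h1
    refine le_of_eq_of_le (Finset.prod_congr rfl fun u _ => ?_) h1
    simp only [Function.Embedding.coe_subtype]
    ring

theorem bd_pb {D : AddMonoid.End (A →₀ ℕ)} {η : ℝ} {f : MvPolynomial A E}
    (h : Bd 1 η f) : Bd 1 η (pb D f) := by
  rw [f.as_sum, map_sum]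
  refine Bd.sum zero_le_one h.nonneg fun u _ => ?_
  rw [pb_monomial]
  refine (Bd.monomial zero_le_one _ _).mono ?_
  simpa using h u

theorem norm_lam_le' {η : ℝ} {f : MvPolynomial A E} (h : Bd 1 η f) (D : AddMonoid.End (A →₀ ℕ)) (S : Finset A) :
    ‖lam D S f‖ ≤ η := by
  refine IsUltrametricDist.norm_sum_le_of_forall_le_of_nonneg h.nonneg fun u _ => ?_
  split_ifs
  · simpa using h u
  · simpa using h.nonneg

theorem bd_hpw {G : MvPolynomial A E} (hG : Bd 1 1 G) (m : ℕ) : Bd 1 1 (hpw C G m) := by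
  induction m with
  | zero => simpa [hpw] using Bd.one (I := A) (E := E) zero_le_one
  | succ m ih =>
    rw [hpw_succ]
    simpa using (bd_pb hG).mul zero_le_one ih

theorem bd_hpw_sub {G G' : MvPolynomial A E} (hG : Bd 1 1 G) (hG' : Bd 1 1 G') {η : ℝ} (h : Bd 1 η (G - G'))
    (m : ℕ) : Bd 1 η (hpw C G m - hpw C G' m) := by
  induction m with
  | zero => simpa [hpw] using Bd.zero (I := A) (E := E) (ρ := 1) h.nonneg
  | succ m ih =>
    have e : hpw C G (m + 1) - hpw C G' (m + 1) = pb (C ^ m) (G - G') * hpw C G m +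
        pb (C ^ m) G' * (hpw C G m - hpw C G' m) := by
      rw [hpw_succ, hpw_succ, map_sub]; ring
    rw [e]
    refine Bd.add zero_le_one ?_ ?_
    · simpa using (bd_pb h).mul zero_le_one (bd_hpw hG m)
    · simpa using (bd_pb hG').mul zero_le_one ih

/-- the limits of the traces exist and have an entire Fredholm series -/
theorem Xp.exists_fred [CompleteSpace E] (h : Xp C n Q W c) {ρ δ : ℝ} (hρ : 1 < ρ) (hδ : δ < 1)
    {G : ℕ → MvPolynomial A E} (hG : ∀ N, Bd ρ 1 (G N)) (hGG : ∀ N, Bd 1 (δ ^ N) (G (N + 1) - G N)) {S : Finset A}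
    (hS : ∀ u : A →₀ ℕ, u.support ⊆ S → (C u).support ⊆ S) :
    ∃ t : ℕ → E, Fred t ∧ ∀ m, Tendsto (fun N => lam (C ^ m) S (hpw C (G N) m)) atTop (𝓝 (t m)) := by
  have h1 : ∀ m, ∃ t, Tendsto (fun N => lam (C ^ m) S (hpw C (G N) m)) atTop (𝓝 t) := fun m => by
    refine cauchySeq_tendsto_of_complete (cauchySeq_of_le_geometric δ 1 hδ fun N => ?_)
    rw [dist_comm, dist_eq_norm, one_mul, lam_sub]
    exact norm_lam_le' (bd_hpw_sub ((hG _).of_one_le hρ.le) ((hG _).of_one_le hρ.le) (hGG N) m) _ _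
  choose t ht using h1
  refine ⟨t, h.fred hρ hG (fun N => c * (c * (G N).totalDegree)) S fun m hm => ?_, ht⟩
  simp only [h.trace_pow le_rfl hS hm]
  exact ht m

end an

end Cfsg.Agent.KM.Rt3
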